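import Cfsg.Agent.Lib.CoTwo.U62Data
import Cfsg.Agent.Lib.CosetEnum.Fi22U62Pts.Data

/-!
# Kernel checks for the stabiliser of two minimal vectors
-/

set_option autoImplicit false
set_option maxRecDepth 100000

namespace Cfsg.Lib.CoTwo.U62

open Cfsg Cfsg.Lib.Concrete

/-- The key of a vector by number: the 891 vectors and then the two fixed ones. -/
def keyAt (k : ℕ) : ℕ := if Nat.beq k 891 then keyV else if Nat.beq k 892 then keyW else look 27 keys k

/-- The image of a vector under a transvection. -/
def moveAt (g k : ℕ) : ℕ := if Nat.ble 891 k then k else look 27 (moves.getD g []) k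

/-- The fixed set of a transvection. -/
def maskAt (j : ℕ) : ℕ := look 21 masks j

theorem mat0_ok : certGensOk [mats.getD 0 []] [cols.getD 0 []] = true := by decide +kernel

theorem mat1_ok : certGensOk [mats.getD 1 []] [cols.getD 1 []] = true := by decide +kernel

theorem mat2_ok : certGensOk [mats.getD 2 []] [cols.getD 2 []] = true := by decide +kernel

theorem mat3_ok : certGensOk [mats.getD 3 []] [cols.getD 3 []] = true := by decide +kernel

theorem mat4_ok : certGensOk [mats.getD 4 []] [cols.getD 4 []] = true := by decide +kernel

theorem mat5_ok : certGensOk [mats.getD 5 []] [cols.getD 5 []] = true := by decide +kernel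

theorem mat6_ok : certGensOk [mats.getD 6 []] [cols.getD 6 []] = true := by decide +kernel

theorem mat7_ok : certGensOk [mats.getD 7 []] [cols.getD 7 []] = true := by decide +kernel

theorem keys_lattice : ((List.range 893).all fun k =>
    inLeech (codeVec (keyAt k)) && decide (keyAt k < 16 ^ 24)) = true := by decide +kernel

theorem keys_increasing : ((List.range 890).all fun k => decide (keyAt k < keyAt (k + 1))) = true := by
  decide +kernel

theorem fixed_facts : sqNorm (codeVec keyV) = 32 ∧ sqNorm (codeVec keyW) = 32 ∧
    dotInt (codeVec keyV) (codeVec keyW) = -16 := by decide +kernel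

theorem moves_ok : ((List.range 8).all fun g => (List.range 893).all fun k =>
    decide (moveAt g k < 893) && (decide (891 ≤ k) || decide (moveAt g k < 891)) &&
      Nat.beq (moveAt g (moveAt g k)) k &&
      natStepOk (cols.getD g []) (keyAt k) (keyAt (moveAt g k))) = true := by decide +kernel

theorem members_masks : ((List.range 693).all fun j =>
    Nat.beq (orMask (members.getD j []) (fun _ => true) id) (maskAt j)) = true := by decide +kernel

/-- The test that a generator permutes the fixed sets as the table says. -/
noncomputable def maskMoveOk (g : ℕ) : Bool :=
  (List.range 693).all fun j => (members.getD j []).all fun k =>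
    Nat.testBit (maskAt (CosetEnum.img CosetEnum.Fi22U62Pts.tabP 9 (g + 1) j)) (moveAt g k)

theorem masks_move0 : maskMoveOk 0 = true := by decide +kernel

theorem masks_move1 : maskMoveOk 1 = true := by decide +kernel

theorem masks_move2 : maskMoveOk 2 = true := by decide +kernel

theorem masks_move3 : maskMoveOk 3 = true := by decide +kernel

theorem masks_move4 : maskMoveOk 4 = true := by decide +kernel

theorem masks_move5 : maskMoveOk 5 = true := by decide +kernel

theorem masks_move6 : maskMoveOk 6 = true := by decide +kernel

theorem masks_move7 : maskMoveOk 7 = true := by decide +kernel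

theorem mask_order : ((List.range 693).all fun i => decide (look 21 maskOrder i < 693) &&
    (decide (692 ≤ i) || decide (maskAt (look 21 maskOrder i) < maskAt (look 21 maskOrder (i + 1))))) = true := by
  decide +kernel

theorem triples_ok : ((List.range 891).all fun k =>
    let t := look 27 triples k
    decide (t / (693 * 693) < 693) &&
      Nat.beq (maskAt (t % 693) &&& maskAt (t / 693 % 693) &&& maskAt (t / (693 * 693))) (2 ^ k)) = true := by
  decide +kernel

theorem span_ok : ((List.range 24).all fun i => (List.range 24).all fun p =>
    decide (((List.range 24).foldr (fun j a => (spanCoef.getD i []).getD j 0 *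
      codeCoord (keyAt (spanIdx.getD j 0)) (Fin.ofNat 24 p) + a) 0) = if Nat.beq i p then 8 else 0)) = true ∧
    spanIdx.all (fun k => decide (k < 893)) = true ∧ spanIdx.length = 24 := by decide +kernel

end Cfsg.Lib.CoTwo.U62
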