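import Cfsg.Agent.Lib.CoTwo.U62Checks
import Cfsg.Agent.Lib.CosetEnum.Fi22U62Pts.Valid
import Cfsg.Agent.Lib.CosetEnum.Fi22U62Pts.Points
import Cfsg.Agent.Lib.Concrete.LeechCensus
import Cfsg.Agent.S1684
import Cfsg.Agent.S1573
import Cfsg.Agent.S1574
import Cfsg.Agent.S0402

/-!
# The stabiliser of two minimal vectors with inner product minus two
-/

set_option autoImplicit false
set_option maxRecDepth 100000

namespace Cfsg.Lib.CoTwo.U62

open Cfsg Cfsg.Lib.Concrete Cfsg.Lib.CosetEnum
open scoped Pointwise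

theorem key_props (k : ℕ) (hk : k < 893) : inLeech (codeVec (keyAt k)) = true ∧ keyAt k < 16 ^ 24 := by
  have h := List.all_eq_true.1 keys_lattice k (List.mem_range.2 hk)
  simpa only [Bool.and_eq_true, decide_eq_true_eq] using h

/-- A numbered vector. -/
def uL (k : Fin 893) : leechLattice := ⟨_, mem_leech_of_inLeech (key_props k.1 k.2).1⟩

theorem uL_val (k : Fin 893) : (uL k : GolayPt → ℤ) = codeVec (keyAt k.1) := rfl

/-- The first fixed vector. -/
def vOne : leechLattice := uL ⟨891, by norm_num⟩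

/-- The second fixed vector. -/
def vTwo : leechLattice := uL ⟨892, by norm_num⟩

theorem pair_norms : sqNorm (vOne : GolayPt → ℤ) = 32 ∧ sqNorm (vTwo : GolayPt → ℤ) = 32 ∧
    dotInt (vOne : GolayPt → ℤ) (vTwo : GolayPt → ℤ) = -16 := fixed_facts

theorem key_mono : ∀ i j, i < j → j < 891 → keyAt i < keyAt j := by
  intro i j hij
  induction hij with
  | refl =>
    intro h
    exact of_decide_eq_true (List.all_eq_true.1 keys_increasing i (List.mem_range.2 (by omega)))
  | step hij ih =>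
    intro h
    exact (ih (by omega)).trans
      (of_decide_eq_true (List.all_eq_true.1 keys_increasing _ (List.mem_range.2 (by omega))))

theorem uL_inj {i j : Fin 893} (hi : i.1 < 891) (hj : j.1 < 891) (h : uL i = uL j) : i = j := by
  have e := codeVec_inj (key_props i.1 i.2).2 (key_props j.1 j.2).2 (congrArg Subtype.val h)
  rcases lt_trichotomy i.1 j.1 with a | a | a
  · exact absurd e (key_mono _ _ a hj).ne
  · exact Fin.ext a
  · exact absurd e (key_mono _ _ a hi).ne'

theorem certGens (g : Fin 8) : certGensOk [mats.getD g.1 []] [cols.getD g.1 []] = true := by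
  fin_cases g
  exacts [mat0_ok, mat1_ok, mat2_ok, mat3_ok, mat4_ok, mat5_ok, mat6_ok, mat7_ok]

theorem gen_facts (g : Fin 8) : matOk (mats.getD g.1 []) = true ∧ boundOk (mats.getD g.1 []) = true ∧
    packCols (mats.getD g.1 []) = unshift (cols.getD g.1 []) := by
  have h := certGens g
  simp only [certGensOk, List.all_cons, List.all_nil, Bool.and_true, List.map_cons, List.map_nil, Bool.and_eq_true,
    beq_iff_eq, List.cons.injEq, and_true] at h
  exact ⟨h.1.1, h.1.2, h.2⟩

/-- The transvections as automorphisms. -/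
def hEl (g : Fin 8) : Co0 := matCo0 _ (gen_facts g).1

theorem move_facts (g : Fin 8) (k : Fin 893) : moveAt g.1 k.1 < 893 ∧ (k.1 < 891 → moveAt g.1 k.1 < 891) ∧
    moveAt g.1 (moveAt g.1 k.1) = k.1 ∧ natStepOk (cols.getD g.1 []) (keyAt k.1) (keyAt (moveAt g.1 k.1)) = true := by
  have h := List.all_eq_true.1 (List.all_eq_true.1 moves_ok g.1 (List.mem_range.2 g.2)) k.1 (List.mem_range.2 k.2)
  simp only [Bool.and_eq_true, Bool.or_eq_true, decide_eq_true_eq, Nat.beq_eq] at h
  exact ⟨h.1.1.1, fun hk => h.1.1.2.resolve_left (by omega), h.1.2, h.2⟩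

/-- The moved number. -/
def mv (g : Fin 8) (k : Fin 893) : Fin 893 := ⟨moveAt g.1 k.1, (move_facts g k).1⟩

theorem hEl_smul (g : Fin 8) (k : Fin 893) : hEl g • uL k = uL (mv g k) := by
  refine Subtype.ext (smul_of_stepOk (gen_facts g).1 (gen_facts g).2.1 ?_ (uL_val k))
  rw [(gen_facts g).2.2]
  exact stepOk_of_nat (move_facts g k).2.2.2

/-- The stabiliser of the pair. -/
abbrev pairStab : Subgroup Co0 := MulAction.stabilizer Co0 vOne ⊓ MulAction.stabilizer Co0 vTwo

theorem hEl_mem (g : Fin 8) : hEl g ∈ pairStab := by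
  refine Subgroup.mem_inf.2 ⟨?_, ?_⟩ <;> refine MulAction.mem_stabilizer_iff.2 ?_
  · rw [vOne, hEl_smul, show mv g ⟨891, by norm_num⟩ = ⟨891, by norm_num⟩ from Fin.ext rfl]
  · rw [vTwo, hEl_smul, show mv g ⟨892, by norm_num⟩ = ⟨892, by norm_num⟩ from Fin.ext rfl]

/-- The vectors fixed by a transvection. -/
def fixedOf (j : Fin 693) : Set leechLattice :=
  uL '' {k | k.1 < 891 ∧ Nat.testBit (maskAt j.1) k.1 = true}

theorem maskMove (g : Fin 8) : maskMoveOk g.1 = true := by
  fin_cases g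
  exacts [masks_move0, masks_move1, masks_move2, masks_move3, masks_move4, masks_move5, masks_move6, masks_move7]

/-- The permutations of the transvections. -/
noncomputable abbrev tp (g : ℕ) : Equiv.Perm (Fin 693) := tperm Fi22U62Pts.tabP 9 693 g

theorem mem_members {j : Fin 693} {k : ℕ} (h : Nat.testBit (maskAt j.1) k = true) :
    k ∈ members.getD j.1 [] := by
  rw [← Nat.eq_of_beq_eq_true (List.all_eq_true.1 members_masks j.1 (List.mem_range.2 j.2)), testBit_orMask] at h
  obtain ⟨i, hi, -, rfl⟩ := h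
  exact hi

theorem image_le (g : Fin 8) (j : Fin 693) :
    (fun x => hEl g • x) '' fixedOf j ⊆ fixedOf (tp (g.1 + 1) j) := by
  rintro _ ⟨_, ⟨k, ⟨hk, hbit⟩, rfl⟩, rfl⟩
  refine ⟨mv g k, ⟨(move_facts g k).2.1 hk, ?_⟩, (hEl_smul g k).symm⟩
  have h := List.all_eq_true.1 (List.all_eq_true.1 (maskMove g) j.1 (List.mem_range.2 j.2)) k.1 (mem_members hbit)
  rw [tperm_apply Fi22U62Pts.perm_ok (by omega) j]
  exact h

theorem hEl_sq (g : Fin 8) (k : Fin 893) : hEl g • (hEl g • uL k) = uL k := by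
  rw [hEl_smul, hEl_smul]
  exact congrArg uL (Fin.ext (move_facts g k).2.2.1)

/-- The pairs of an automorphism and the permutation it induces. -/
def pairs : Subgroup (↥pairStab × Equiv.Perm (Fin 693)) where
  carrier := {p | ∀ j, (fun x => (p.1 : Co0) • x) '' fixedOf j = fixedOf (p.2 j)}
  one_mem' j := by simp
  mul_mem' := by
    rintro ⟨a, σ⟩ ⟨b, τ⟩ ha hb j
    show (fun x => ((a : Co0) * b) • x) '' fixedOf j = fixedOf (σ (τ j))
    rw [← ha (τ j), ← hb j, Set.image_image]
    simp only [mul_smul]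
  inv_mem' := by
    rintro ⟨a, σ⟩ ha j
    show (fun x => (a : Co0)⁻¹ • x) '' fixedOf j = fixedOf (σ⁻¹ j)
    have h := ha (σ⁻¹ j)
    rw [show σ (σ⁻¹ j) = j from σ.apply_symm_apply j] at h
    rw [← h, Set.image_image]
    simp only [inv_smul_smul, Set.image_id']

theorem gen_pair (g : Fin 8) : ((⟨hEl g, hEl_mem g⟩ : ↥pairStab), tp (g.1 + 1)) ∈ pairs := by
  intro j
  refine Set.Subset.antisymm (image_le g j) fun x hx => ?_
  have hσ : tp (g.1 + 1) (tp (g.1 + 1) j) = j := by
    have := congrArg (fun σ : Equiv.Perm (Fin 693) => σ j) (tperm_mul_self Fi22U62Pts.tabP 9 693 (g.1 + 1))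
    simpa using this
  obtain ⟨k, hk, rfl⟩ := hx
  have h2 := image_le g _ ⟨_, ⟨k, hk, rfl⟩, rfl⟩
  rw [hσ] at h2
  exact ⟨_, h2, hEl_sq g k⟩

theorem mask_inj {i j : Fin 693} (h : maskAt i.1 = maskAt j.1) : i = j := by
  have hmono : ∀ a b, a < b → b < 693 → maskAt (look 21 maskOrder a) < maskAt (look 21 maskOrder b) := by
    intro a b hab
    induction hab with
    | refl =>
      intro hb
      have h := List.all_eq_true.1 mask_order a (List.mem_range.2 (by omega))
      simp only [Bool.and_eq_true, Bool.or_eq_true, decide_eq_true_eq] at h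
      exact h.2.resolve_left (by omega)
    | step hab ih =>
      intro hb
      have h := List.all_eq_true.1 mask_order _ (List.mem_range.2 (show _ < 693 by exact (Nat.lt_of_succ_lt hb)))
      simp only [Bool.and_eq_true, Bool.or_eq_true, decide_eq_true_eq] at h
      exact (ih (by omega)).trans (h.2.resolve_left (by omega))
  have hlt : ∀ a : Fin 693, look 21 maskOrder a.1 < 693 := fun a => by
    have h := List.all_eq_true.1 mask_order a.1 (List.mem_range.2 a.2)
    simp only [Bool.and_eq_true, decide_eq_true_eq] at h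
    exact h.1
  let f : Fin 693 → Fin 693 := fun a => ⟨_, hlt a⟩
  have hf : Function.Injective f := fun a b e => by
    have e' : look 21 maskOrder a.1 = look 21 maskOrder b.1 := congrArg Fin.val e
    rcases lt_trichotomy a.1 b.1 with c | c | c
    · exact absurd (congrArg maskAt e') (hmono _ _ c b.2).ne
    · exact Fin.ext c
    · exact absurd (congrArg maskAt e') (hmono _ _ c a.2).ne'
  obtain ⟨a, rfl⟩ := (Finite.injective_iff_surjective.1 hf) i
  obtain ⟨b, rfl⟩ := (Finite.injective_iff_surjective.1 hf) j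
  rcases lt_trichotomy a.1 b.1 with c | c | c
  · exact absurd h (hmono _ _ c b.2).ne
  · rw [Fin.ext c]
  · exact absurd h (hmono _ _ c a.2).ne'

theorem mask_bound {j : Fin 693} {k : ℕ} (h : Nat.testBit (maskAt j.1) k = true) : k < 891 := by
  by_contra hk
  have hlt : (List.range 693).all (fun j => (members.getD j []).all fun k => decide (k < 891)) = true := by
    decide +kernel
  exact hk (of_decide_eq_true (List.all_eq_true.1 (List.all_eq_true.1 hlt j.1 (List.mem_range.2 j.2)) k (mem_members h)))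

theorem fixedOf_inj {i j : Fin 693} (h : fixedOf i = fixedOf j) : i = j := by
  refine mask_inj (Nat.eq_of_testBit_eq fun k => ?_)
  have key : ∀ a b : Fin 693, fixedOf a = fixedOf b → Nat.testBit (maskAt a.1) k = true →
      Nat.testBit (maskAt b.1) k = true := by
    intro a b hab hbit
    have hk := mask_bound hbit
    have hmem : uL ⟨k, by omega⟩ ∈ fixedOf b := hab ▸ ⟨_, ⟨hk, hbit⟩, rfl⟩
    obtain ⟨k', ⟨hk', hb'⟩, e⟩ := hmem
    have := uL_inj hk' hk e
    rwa [this] at hb'
  exact Bool.eq_iff_iff.2 ⟨key i j h, key j i h.symm⟩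

theorem fix_all {h : Co0} (hh : ∀ j, (fun x => h • x) '' fixedOf j = fixedOf j) (k : Fin 893) (hk : k.1 < 891) :
    h • uL k = uL k := by
  have ht := List.all_eq_true.1 triples_ok k.1 (List.mem_range.2 hk)
  simp only [Bool.and_eq_true, decide_eq_true_eq, Nat.beq_eq] at ht
  obtain ⟨hc, heq⟩ := ht
  set t := look 27 triples k.1
  have hbits : ∀ i, (maskAt (t % 693) &&& maskAt (t / 693 % 693) &&& maskAt (t / (693 * 693))).testBit i = true →
      i = k.1 := fun i hi => by
    rw [heq, Nat.testBit_two_pow, decide_eq_true_eq] at hi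
    exact hi.symm
  have hself : (2 ^ k.1).testBit k.1 = true := Nat.testBit_two_pow_self
  rw [← heq, Nat.testBit_and, Nat.testBit_and, Bool.and_eq_true, Bool.and_eq_true] at hself
  have key : ∀ j (hj : j < 693), (maskAt j).testBit k.1 = true → h • uL k ∈ fixedOf ⟨j, hj⟩ := fun j hj hb =>
    hh ⟨j, hj⟩ ▸ ⟨_, ⟨k, ⟨hk, hb⟩, rfl⟩, rfl⟩
  obtain ⟨a, ⟨ha, hab⟩, ea⟩ := key _ (Nat.mod_lt _ (by norm_num)) hself.1.1
  obtain ⟨b, ⟨hb, hbb⟩, eb⟩ := key _ (Nat.mod_lt _ (by norm_num)) hself.1.2
  obtain ⟨c, ⟨hc', hcb⟩, ec⟩ := key _ hc hself.2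
  obtain rfl := uL_inj hb ha (eb.trans ea.symm)
  obtain rfl := uL_inj hc' ha (ec.trans ea.symm)
  rw [← ea]
  refine congrArg uL (Fin.ext (hbits _ ?_))
  rw [Nat.testBit_and, Nat.testBit_and, Bool.and_eq_true, Bool.and_eq_true]
  exact ⟨⟨hab, hbb⟩, hcb⟩

theorem faithful {h : Co0} (hv : h ∈ pairStab) (hh : ∀ j, (fun x => h • x) '' fixedOf j = fixedOf j) : h = 1 := by
  have hfix : ∀ k : Fin 893, h • uL k = uL k := fun k => by
    rcases Nat.lt_or_ge k.1 891 with hk | hk
    · exact fix_all hh k hk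
    · have hcases : k = ⟨891, by norm_num⟩ ∨ k = ⟨892, by norm_num⟩ := by
        rcases (show k.1 = 891 ∨ k.1 = 892 by omega) with e | e
        · exact Or.inl (Fin.ext e)
        · exact Or.inr (Fin.ext e)
      rcases hcases with rfl | rfl
      · exact (Subgroup.mem_inf.1 hv).1
      · exact (Subgroup.mem_inf.1 hv).2
  obtain ⟨hsp, hlt, -⟩ := span_ok
  have hk : ∀ j : Fin 24, spanIdx.getD j.1 0 < 893 := fun j => by
    have hj : j.1 < spanIdx.length := by rw [span_ok.2.2]; exact j.2
    rw [List.getD_eq_getElem _ _ hj]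
    exact of_decide_eq_true (List.all_eq_true.1 hlt _ (List.getElem_mem hj))
  have hcomb : ∀ i : GolayPt, e8 i = ∑ j : Fin 24, (spanCoef.getD (gidx i).1 []).getD j.1 0 • uL ⟨_, hk j⟩ := by
    intro i
    refine Subtype.ext (funext fun p => ?_)
    have h1 := List.all_eq_true.1 (List.all_eq_true.1 hsp (gidx i).1 (List.mem_range.2 (gidx i).2)) (gidx p).1
      (List.mem_range.2 (gidx p).2)
    rw [decide_eq_true_eq, Fin.ofNat_val_eq_self] at h1
    simp only [AddSubgroup.val_finsetSum, AddSubgroup.coe_zsmul, Finset.sum_apply, Pi.smul_apply, smul_eq_mul, uL_val]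
    show (Pi.single i 8 : GolayPt → ℤ) p = _
    have h2 : (List.range 24).foldr (fun j a => (spanCoef.getD (gidx i).1 []).getD j 0 *
        codeCoord (keyAt (spanIdx.getD j 0)) (gidx p) + a) 0 =
        ∑ j : Fin 24, (spanCoef.getD (gidx i).1 []).getD j.1 0 * codeVec (keyAt (spanIdx.getD j.1 0)) p := by
      rw [← List.map_coe_finRange_eq_range, List.foldr_map]
      exact foldr_eq_sum fun j : Fin 24 =>
        (spanCoef.getD (gidx i).1 []).getD j.1 0 * codeCoord (keyAt (spanIdx.getD j.1 0)) (gidx p)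
    rw [← h2, h1, Pi.single_apply]
    by_cases hip : p = i
    · subst hip; simp
    · have : (gidx i).1 ≠ (gidx p).1 := fun e => hip (gidx_injective (Fin.ext e.symm))
      rw [if_neg hip, if_neg (by simp [this])]
  refine Subtype.ext (Equiv.ext fun v => Subtype.ext (funext fun p => ?_))
  have h1 : h • ((8 : ℤ) • v) = (8 : ℤ) • v := by
    have hz : ∀ (n : ℤ) (x : leechLattice), h • (n • x) = n • (h • x) := fun n x => map_zsmul (co0Hom h) n x
    have hs : ∀ f : GolayPt → leechLattice, h • (∑ i, f i) = ∑ i, h • f i := fun f => map_sum (co0Hom h) f _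
    have hs' : ∀ f : Fin 24 → leechLattice, h • (∑ i, f i) = ∑ i, h • f i := fun f => map_sum (co0Hom h) f _
    rw [sum_smul_e8, hs]
    refine Finset.sum_congr rfl fun i _ => ?_
    rw [hz, hcomb, hs']
    congr 1
    exact Finset.sum_congr rfl fun j _ => by rw [hz, hfix]
  have h2 : h • ((8 : ℤ) • v) = (8 : ℤ) • (h • v) := map_zsmul (co0Hom h) 8 v
  rw [h2] at h1
  have h3 := congrFun (congrArg Subtype.val h1) p
  simp only [AddSubgroup.coe_zsmul, Pi.smul_apply, smul_eq_mul] at h3
  exact mul_left_cancel₀ (by norm_num) h3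

theorem card_pairStab : Nat.card pairStab = 9196830720 := by
  obtain ⟨hv, hw, hd⟩ := pair_norms
  set A := MulAction.stabilizer Co0 vOne
  have hA : Nat.card A = 42305421312000 := (Cfsg.Agent.S0402.result vOne hv).2
  have horb : MulAction.orbit A vTwo =
      {x : leechLattice | sqNorm (x : GolayPt → ℤ) = 32 ∧ dotInt (vOne : GolayPt → ℤ) (x : GolayPt → ℤ) = -16} := by
    ext x
    constructor
    · rintro ⟨⟨g, hg⟩, rfl⟩
      refine ⟨(co0_sqNorm g vTwo).trans hw, ?_⟩
      have h1 := co0_dot g vOne vTwo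
      rw [show g • vOne = vOne from hg] at h1
      exact h1.trans hd
    · rintro ⟨hx, hdx⟩
      obtain ⟨g, hg, e⟩ := Cfsg.Agent.S1574.result vOne vTwo x hv hw hx hd hdx
      exact ⟨⟨g, hg⟩, e⟩
  have hcount : (MulAction.orbit A vTwo).ncard = 4600 := by
    rw [horb, ← Set.ncard_image_of_injective _ Subtype.val_injective, ← (Cfsg.Agent.S1573.result _ vOne.2 hv).1]
    congr 1
    ext y
    constructor
    · rintro ⟨x, ⟨h1, h2⟩, rfl⟩
      exact ⟨x.2, h1, h2⟩
    · rintro ⟨h0, h1, h2⟩
      exact ⟨⟨y, h0⟩, ⟨h1, h2⟩, rfl⟩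
  have h1 := (MulAction.stabilizer A vTwo).card_mul_index
  rw [MulAction.index_stabilizer, hcount, hA] at h1
  have h2 : Nat.card pairStab = Nat.card (MulAction.stabilizer A vTwo) :=
    Nat.card_congr ⟨fun g => ⟨⟨g.1, (Subgroup.mem_inf.1 g.2).1⟩, (Subgroup.mem_inf.1 g.2).2⟩,
      fun g => ⟨g.1.1, Subgroup.mem_inf.2 ⟨g.1.2, g.2⟩⟩, fun g => rfl, fun g => rfl⟩
  rw [h2]
  exact Nat.eq_of_mul_eq_mul_right (show 0 < 4600 by norm_num) (h1.trans (by norm_num))

theorem pairStab_equiv : Nonempty (↥pairStab ≃* Cfsg.PSU 6 GF4 2) := by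
  classical
  obtain ⟨hcard, ⟨e⟩⟩ := GF4.equiv_psu Cfsg.Agent.S1684.pt_distinct Cfsg.Agent.S1684.perm_induced
    Cfsg.Agent.S1684.card_points_group
  haveI : Finite ↥pairStab := Nat.finite_of_card_ne_zero (by rw [card_pairStab]; norm_num)
  let π₁ : ↥pairs →* ↥pairStab := (MonoidHom.fst _ _).comp pairs.subtype
  let π₂ : ↥pairs →* Equiv.Perm (Fin 693) := (MonoidHom.snd _ _).comp pairs.subtype
  have h1 : Function.Injective π₁ := by
    rw [← MonoidHom.ker_eq_bot_iff, Subgroup.eq_bot_iff_forall]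
    rintro ⟨⟨a, σ⟩, hm⟩ h
    replace h : a = 1 := h
    subst h
    refine Subtype.ext (Prod.ext rfl (Equiv.ext fun j => fixedOf_inj ?_))
    have := hm j
    simp only [Subgroup.coe_one, one_smul, Set.image_id'] at this
    exact this.symm
  have h2 : Function.Injective π₂ := by
    rw [← MonoidHom.ker_eq_bot_iff, Subgroup.eq_bot_iff_forall]
    rintro ⟨⟨a, σ⟩, hm⟩ h
    replace h : σ = 1 := h
    subst h
    exact Subtype.ext (Prod.ext (Subtype.ext (faithful a.2 fun j => hm j)) rfl)
  set K := Subgroup.closure (tp '' {g | g < 9})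
  have hle : K ≤ π₂.range := by
    rw [Subgroup.closure_le]
    rintro _ ⟨g, hg, rfl⟩
    replace hg : g < 9 := hg
    rcases g with _ | g
    · refine ⟨1, ?_⟩
      rw [map_one]
      exact (Equiv.ext fun j => Fin.ext (by
        rw [tperm_apply Fi22U62Pts.perm_ok (by norm_num) j]
        exact (GF4.pointsOK_get Fi22U62Pts.points_ok j.1 (Nat.zero_le _) (by omega)).2.1)).symm
    · exact ⟨⟨_, gen_pair ⟨g, by omega⟩⟩, rfl⟩
  haveI : Finite ↥pairs := Finite.of_injective π₁ h1
  have hr : Nat.card π₂.range = Nat.card ↥pairs := (Nat.card_congr (MonoidHom.ofInjective h2).toEquiv).symm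
  have hle1 : Nat.card ↥pairs ≤ 9196830720 := card_pairStab ▸ Nat.card_le_card_of_injective π₁ h1
  have heq : K = π₂.range := by
    refine Subgroup.eq_of_le_of_card_ge hle ?_
    rw [hr, hcard]
    exact hle1
  have hbij : Function.Bijective π₁ := h1.bijective_of_nat_card_le (by
    rw [card_pairStab, ← hr, ← heq, hcard])
  exact ⟨(MulEquiv.ofBijective π₁ hbij).symm.trans
    (((MonoidHom.ofInjective h2).trans (MulEquiv.subgroupCongr heq.symm)).trans e)⟩

end Cfsg.Lib.CoTwo.U62
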